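import Mathlib
import Cfsg.Agent.TcData.Ly.Cov.L4.Tab

set_option autoImplicit false
set_option Elab.async false
set_option maxRecDepth 100000
set_option linter.all false
set_option maxHeartbeats 0

namespace Cfsg.Agent.TcData.Ly.Cov.L4

open Cfsg.Agent.Lib.TcFacts

theorem b0 : Block F Cfsg.Agent.TcData.Ly.K1.al 0 256 231 :=
  block_of_check (k := 8) rfl (by decide +kernel)

theorem b1 : Block F Cfsg.Agent.TcData.Ly.K1.al 256 512 230 :=
  block_of_check (k := 8) rfl (by decide +kernel)

theorem b2 : Block F Cfsg.Agent.TcData.Ly.K1.al 512 768 234 :=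
  block_of_check (k := 8) rfl (by decide +kernel)

theorem b3 : Block F Cfsg.Agent.TcData.Ly.K1.al 768 1024 219 :=
  block_of_check (k := 8) rfl (by decide +kernel)

theorem b4 : Block F Cfsg.Agent.TcData.Ly.K1.al 1024 1280 206 :=
  block_of_check (k := 8) rfl (by decide +kernel)

theorem b5 : Block F Cfsg.Agent.TcData.Ly.K1.al 1280 1536 211 :=
  block_of_check (k := 8) rfl (by decide +kernel)

theorem b6 : Block F Cfsg.Agent.TcData.Ly.K1.al 1536 1792 217 :=
  block_of_check (k := 8) rfl (by decide +kernel)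

theorem b7 : Block F Cfsg.Agent.TcData.Ly.K1.al 1792 2048 201 :=
  block_of_check (k := 8) rfl (by decide +kernel)

theorem b8 : Block F Cfsg.Agent.TcData.Ly.K1.al 2048 2304 201 :=
  block_of_check (k := 8) rfl (by decide +kernel)

theorem b9 : Block F Cfsg.Agent.TcData.Ly.K1.al 2304 2560 173 :=
  block_of_check (k := 8) rfl (by decide +kernel)

theorem b10 : Block F Cfsg.Agent.TcData.Ly.K1.al 2560 2816 182 :=
  block_of_check (k := 8) rfl (by decide +kernel)

theorem b11 : Block F Cfsg.Agent.TcData.Ly.K1.al 2816 3072 171 :=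
  block_of_check (k := 8) rfl (by decide +kernel)

theorem b12 : Block F Cfsg.Agent.TcData.Ly.K1.al 3072 3328 175 :=
  block_of_check (k := 8) rfl (by decide +kernel)

theorem b13 : Block F Cfsg.Agent.TcData.Ly.K1.al 3328 3584 229 :=
  block_of_check (k := 8) rfl (by decide +kernel)

theorem b14 : Block F Cfsg.Agent.TcData.Ly.K1.al 3584 3840 194 :=
  block_of_check (k := 8) rfl (by decide +kernel)

theorem b15 : Block F Cfsg.Agent.TcData.Ly.K1.al 3840 4096 205 :=
  block_of_check (k := 8) rfl (by decide +kernel)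

theorem b16 : Block F Cfsg.Agent.TcData.Ly.K1.al 4096 4352 196 :=
  block_of_check (k := 8) rfl (by decide +kernel)

theorem b17 : Block F Cfsg.Agent.TcData.Ly.K1.al 4352 4608 172 :=
  block_of_check (k := 8) rfl (by decide +kernel)

theorem b18 : Block F Cfsg.Agent.TcData.Ly.K1.al 4608 4864 163 :=
  block_of_check (k := 8) rfl (by decide +kernel)

theorem b19 : Block F Cfsg.Agent.TcData.Ly.K1.al 4864 5120 177 :=
  block_of_check (k := 8) rfl (by decide +kernel)

theorem b20 : Block F Cfsg.Agent.TcData.Ly.K1.al 5120 5376 186 :=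
  block_of_check (k := 8) rfl (by decide +kernel)

theorem b21 : Block F Cfsg.Agent.TcData.Ly.K1.al 5376 5632 168 :=
  block_of_check (k := 8) rfl (by decide +kernel)

theorem b22 : Block F Cfsg.Agent.TcData.Ly.K1.al 5632 5888 183 :=
  block_of_check (k := 8) rfl (by decide +kernel)

theorem b23 : Block F Cfsg.Agent.TcData.Ly.K1.al 5888 6144 175 :=
  block_of_check (k := 8) rfl (by decide +kernel)

theorem b24 : Block F Cfsg.Agent.TcData.Ly.K1.al 6144 6400 219 :=
  block_of_check (k := 8) rfl (by decide +kernel)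

theorem b25 : Block F Cfsg.Agent.TcData.Ly.K1.al 6400 6656 223 :=
  block_of_check (k := 8) rfl (by decide +kernel)

theorem b26 : Block F Cfsg.Agent.TcData.Ly.K1.al 6656 6912 207 :=
  block_of_check (k := 8) rfl (by decide +kernel)

theorem b27 : Block F Cfsg.Agent.TcData.Ly.K1.al 6912 7168 179 :=
  block_of_check (k := 8) rfl (by decide +kernel)

theorem b28 : Block F Cfsg.Agent.TcData.Ly.K1.al 7168 7424 202 :=
  block_of_check (k := 8) rfl (by decide +kernel)

theorem b29 : Block F Cfsg.Agent.TcData.Ly.K1.al 7424 7680 190 :=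
  block_of_check (k := 8) rfl (by decide +kernel)

end Cfsg.Agent.TcData.Ly.Cov.L4
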