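import Mathlib
import Cfsg.Agent.TcData.Ly.Cov.L4.Tab

set_option autoImplicit false
set_option Elab.async false
set_option maxRecDepth 100000
set_option linter.all false
set_option maxHeartbeats 0

namespace Cfsg.Agent.TcData.Ly.Cov.L4

open Cfsg.Agent.Lib.TcFacts

theorem b60 : Block F Cfsg.Agent.TcData.Ly.K1.al 15360 15616 142 :=
  block_of_check (k := 8) rfl (by decide +kernel)

theorem b61 : Block F Cfsg.Agent.TcData.Ly.K1.al 15616 15872 127 :=
  block_of_check (k := 8) rfl (by decide +kernel)

theorem b62 : Block F Cfsg.Agent.TcData.Ly.K1.al 15872 16128 123 :=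
  block_of_check (k := 8) rfl (by decide +kernel)

theorem b63 : Block F Cfsg.Agent.TcData.Ly.K1.al 16128 16384 116 :=
  block_of_check (k := 8) rfl (by decide +kernel)

theorem b64 : Block F Cfsg.Agent.TcData.Ly.K1.al 16384 16640 184 :=
  block_of_check (k := 8) rfl (by decide +kernel)

theorem b65 : Block F Cfsg.Agent.TcData.Ly.K1.al 16640 16896 159 :=
  block_of_check (k := 8) rfl (by decide +kernel)

theorem b66 : Block F Cfsg.Agent.TcData.Ly.K1.al 16896 17152 151 :=
  block_of_check (k := 8) rfl (by decide +kernel)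

theorem b67 : Block F Cfsg.Agent.TcData.Ly.K1.al 17152 17408 132 :=
  block_of_check (k := 8) rfl (by decide +kernel)

theorem b68 : Block F Cfsg.Agent.TcData.Ly.K1.al 17408 17664 102 :=
  block_of_check (k := 8) rfl (by decide +kernel)

theorem b69 : Block F Cfsg.Agent.TcData.Ly.K1.al 17664 17920 152 :=
  block_of_check (k := 8) rfl (by decide +kernel)

theorem b70 : Block F Cfsg.Agent.TcData.Ly.K1.al 17920 18176 140 :=
  block_of_check (k := 8) rfl (by decide +kernel)

theorem b71 : Block F Cfsg.Agent.TcData.Ly.K1.al 18176 18432 170 :=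
  block_of_check (k := 8) rfl (by decide +kernel)

theorem b72 : Block F Cfsg.Agent.TcData.Ly.K1.al 18432 18688 120 :=
  block_of_check (k := 8) rfl (by decide +kernel)

theorem b73 : Block F Cfsg.Agent.TcData.Ly.K1.al 18688 18944 108 :=
  block_of_check (k := 8) rfl (by decide +kernel)

theorem b74 : Block F Cfsg.Agent.TcData.Ly.K1.al 18944 19200 118 :=
  block_of_check (k := 8) rfl (by decide +kernel)

theorem b75 : Block F Cfsg.Agent.TcData.Ly.K1.al 19200 19456 142 :=
  block_of_check (k := 8) rfl (by decide +kernel)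

theorem b76 : Block F Cfsg.Agent.TcData.Ly.K1.al 19456 19712 105 :=
  block_of_check (k := 8) rfl (by decide +kernel)

theorem b77 : Block F Cfsg.Agent.TcData.Ly.K1.al 19712 19968 90 :=
  block_of_check (k := 8) rfl (by decide +kernel)

theorem b78 : Block F Cfsg.Agent.TcData.Ly.K1.al 19968 20224 170 :=
  block_of_check (k := 8) rfl (by decide +kernel)

theorem b79 : Block F Cfsg.Agent.TcData.Ly.K1.al 20224 20480 155 :=
  block_of_check (k := 8) rfl (by decide +kernel)

theorem b80 : Block F Cfsg.Agent.TcData.Ly.K1.al 20480 20736 136 :=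
  block_of_check (k := 8) rfl (by decide +kernel)

theorem b81 : Block F Cfsg.Agent.TcData.Ly.K1.al 20736 20992 156 :=
  block_of_check (k := 8) rfl (by decide +kernel)

theorem b82 : Block F Cfsg.Agent.TcData.Ly.K1.al 20992 21248 91 :=
  block_of_check (k := 8) rfl (by decide +kernel)

theorem b83 : Block F Cfsg.Agent.TcData.Ly.K1.al 21248 21504 178 :=
  block_of_check (k := 8) rfl (by decide +kernel)

theorem b84 : Block F Cfsg.Agent.TcData.Ly.K1.al 21504 21760 201 :=
  block_of_check (k := 8) rfl (by decide +kernel)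

theorem b85 : Block F Cfsg.Agent.TcData.Ly.K1.al 21760 22016 220 :=
  block_of_check (k := 8) rfl (by decide +kernel)

theorem b86 : Block F Cfsg.Agent.TcData.Ly.K1.al 22016 22272 193 :=
  block_of_check (k := 8) rfl (by decide +kernel)

theorem b87 : Block F Cfsg.Agent.TcData.Ly.K1.al 22272 22528 215 :=
  block_of_check (k := 8) rfl (by decide +kernel)

theorem b88 : Block F Cfsg.Agent.TcData.Ly.K1.al 22528 22784 183 :=
  block_of_check (k := 8) rfl (by decide +kernel)

theorem b89 : Block F Cfsg.Agent.TcData.Ly.K1.al 22784 23040 202 :=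
  block_of_check (k := 8) rfl (by decide +kernel)

end Cfsg.Agent.TcData.Ly.Cov.L4
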